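import Mathlib

/-! The ideal cutting out a closed condition on a point of a Grassmannian. -/

set_option autoImplicit false

universe u v

noncomputable section

open TensorProduct CategoryTheory Module
open Module.Grassmannian

namespace Groth.Agent.GrassClosed

variable {R : Type u} [CommRing R] {M : Type u} [AddCommGroup M] [Module R M] {k : ℕ}

/-- Stability under endomorphisms and containment of constant elements. -/
def Cond {ι : Type v} (ψ : ι → M →ₗ[R] M) (S : Set M) {A : Type u} [CommRing A] [Algebra R A]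
    (N : Submodule A (A ⊗[R] M)) : Prop :=
  (∀ i, ∀ x ∈ N, (ψ i).baseChange A x ∈ N) ∧ ∀ m ∈ S, (1 : A) ⊗ₜ[R] m ∈ N

/-- The ideal cutting out the condition. -/
def condIdeal {ι : Type v} (ψ : ι → M →ₗ[R] M) (S : Set M) {A : Type u} [CommRing A] [Algebra R A]
    (N : Submodule A (A ⊗[R] M)) : Ideal A :=
  Ideal.span ({a | ∃ (i : ι) (x : A ⊗[R] M) (_ : x ∈ N) (d : Module.Dual A ((A ⊗[R] M) ⧸ N)),
      d (N.mkQ ((ψ i).baseChange A x)) = a} ∪
    {a | ∃ (m : M) (_ : m ∈ S) (d : Module.Dual A ((A ⊗[R] M) ⧸ N)), d (N.mkQ ((1 : A) ⊗ₜ[R] m)) = a})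

theorem exists_lTensor_ker {A : Type u} [CommRing A] {P Q : Type u} [AddCommGroup P] [Module A P]
    [AddCommGroup Q] [Module A Q] (C : Type u) [AddCommGroup C] [Module A C] (g : P →ₗ[A] Q)
    (hg : Function.Surjective g) (w : C ⊗[A] P) (hw : g.lTensor C w = 0) :
    ∃ t, (LinearMap.ker g).subtype.lTensor C t = w :=
  ((_root_.lTensor_exact C (LinearMap.exact_subtype_ker_map g) hg) w).1 hw

theorem one_tmul_eq_zero_iff {A : Type u} [CommRing A] {Q : Type u} [AddCommGroup Q] [Module A Q]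
    [Module.Finite A Q] [Module.Projective A Q] {B : Type u} [CommRing B] [Algebra A B] (q : Q) :
    (1 : B) ⊗ₜ[A] q = 0 ↔ ∀ d : Module.Dual A Q, algebraMap A B (d q) = 0 := by
  constructor
  · intro h d
    have h' := congrArg (fun z => TensorProduct.rid A B (d.lTensor B z)) h
    simpa [Algebra.smul_def] using h'
  · intro h
    obtain ⟨n, π, s, -, -, hπs⟩ := Module.Finite.exists_comp_eq_id_of_projective A Q
    rw [← LinearMap.id_apply (R := A) q, ← hπs, LinearMap.comp_apply, pi_eq_sum_univ' (s q), map_sum,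
      TensorProduct.tmul_sum]
    refine Finset.sum_eq_zero fun i _ => ?_
    rw [map_smul, ← TensorProduct.smul_tmul, ← Algebra.algebraMap_eq_smul_one (s q i),
      show algebraMap A B (s q i) = 0 from h ((LinearMap.proj i).comp s), TensorProduct.zero_tmul]

theorem cond_iff_condIdeal_eq_bot {ι : Type v} (ψ : ι → M →ₗ[R] M) (S : Set M) {A : Type u} [CommRing A]
    [Algebra R A] (N : G(k, A ⊗[R] M; A)) :
    Cond ψ S N.toSubmodule ↔ condIdeal ψ S N.toSubmodule = ⊥ := by
  rw [condIdeal, Ideal.span_eq_bot]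
  constructor
  · rintro ⟨h1, h2⟩ a (⟨i, x, hx, d, rfl⟩ | ⟨m, hm, d, rfl⟩)
    · rw [show N.toSubmodule.mkQ _ = 0 from (Submodule.Quotient.mk_eq_zero _).2 (h1 i x hx), map_zero]
    · rw [show N.toSubmodule.mkQ _ = 0 from (Submodule.Quotient.mk_eq_zero _).2 (h2 m hm), map_zero]
  · intro h
    have key : ∀ y, (∀ d : Module.Dual A ((A ⊗[R] M) ⧸ N.toSubmodule), d (N.toSubmodule.mkQ y) = 0) →
        y ∈ N.toSubmodule := fun y hy =>
      (Submodule.Quotient.mk_eq_zero _).1 ((Module.forall_dual_apply_eq_zero_iff A _).1 hy)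
    exact ⟨fun i x hx => key _ fun d => h _ (Or.inl ⟨i, x, hx, d, rfl⟩),
      fun m hm => key _ fun d => h _ (Or.inr ⟨m, hm, d, rfl⟩)⟩

theorem cond_map_iff {ι : Type v} (ψ : ι → M →ₗ[R] M) (S : Set M) {A C : Type u} [CommRing A] [Algebra R A]
    [CommRing C] [Algebra R C] (f : A →ₐ[R] C) (N : G(k, A ⊗[R] M; A)) :
    Cond ψ S (Module.Grassmannian.map f N).toSubmodule ↔ condIdeal ψ S N.toSubmodule ≤ RingHom.ker f.toRingHom := by
  rw [Module.Grassmannian.map_toSubmodule]
  letI : Algebra A C := f.toAlgebra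
  haveI : IsScalarTower R A C := IsScalarTower.of_algebraMap_eq' <| IsScalarTower.algebraMap_eq R A C
  let N' := N.toSubmodule
  let bc := baseChangeMkQ C N'
  let cc := (AlgebraTensorModule.cancelBaseChange R A C C M).toLinearMap
  have hcc : ∀ w : C ⊗[A] (A ⊗[R] M), bc (cc w) = N'.mkQ.baseChange C w := fun w => by
    show N'.mkQ.baseChange C ((AlgebraTensorModule.cancelBaseChange R A C C M).symm
      (AlgebraTensorModule.cancelBaseChange R A C C M w)) = _
    rw [LinearEquiv.symm_apply_apply]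
  have hψ : ∀ (ξ : M →ₗ[R] M) (c : C) (y : A ⊗[R] M),
      bc (ξ.baseChange C (cc (c ⊗ₜ[A] y))) = c ⊗ₜ[A] N'.mkQ (ξ.baseChange A y) := by
    intro ξ c y
    induction y using TensorProduct.induction_on with
    | zero => simp
    | tmul a m =>
      have e1 : cc (c ⊗ₜ[A] (a ⊗ₜ[R] m)) = (a • c) ⊗ₜ[R] m := by simp [cc]
      have e2 : (a • c) ⊗ₜ[R] ξ m = cc (c ⊗ₜ[A] (a ⊗ₜ[R] ξ m)) := by simp [cc]
      rw [e1, LinearMap.baseChange_tmul, e2, hcc, LinearMap.baseChange_tmul, LinearMap.baseChange_tmul]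
    | add y y' hy hy' => simp only [TensorProduct.tmul_add, map_add, hy, hy']
  have hconst : ∀ m : M, bc ((1 : C) ⊗ₜ[R] m) = (1 : C) ⊗ₜ[A] N'.mkQ ((1 : A) ⊗ₜ[R] m) := fun m => by
    rw [show (1 : C) ⊗ₜ[R] m = cc ((1 : C) ⊗ₜ[A] ((1 : A) ⊗ₜ[R] m)) by simp [cc], hcc,
      LinearMap.baseChange_tmul]
  constructor
  · rintro ⟨h1, h2⟩
    refine Ideal.span_le.2 ?_
    rintro a (⟨i, x, hx, d, rfl⟩ | ⟨m, hm, d, rfl⟩)
    · have hmem : cc ((1 : C) ⊗ₜ[A] x) ∈ LinearMap.ker bc := by
        rw [LinearMap.mem_ker, hcc, LinearMap.baseChange_tmul,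
          show N'.mkQ x = 0 from (Submodule.Quotient.mk_eq_zero _).2 hx, TensorProduct.tmul_zero]
      have h : bc ((ψ i).baseChange C (cc ((1 : C) ⊗ₜ[A] x))) = 0 := h1 i _ hmem
      rw [hψ] at h
      exact (one_tmul_eq_zero_iff _).1 h d
    · have h : bc ((1 : C) ⊗ₜ[R] m) = 0 := h2 m hm
      rw [hconst] at h
      exact (one_tmul_eq_zero_iff _).1 h d
  · intro hle
    refine ⟨fun i z hz => ?_, fun m hm => ?_⟩
    · obtain ⟨w, rfl⟩ : ∃ w, cc w = z := (AlgebraTensorModule.cancelBaseChange R A C C M).surjective z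
      have hw : N'.mkQ.lTensor C w = 0 := (hcc w).symm.trans hz
      obtain ⟨t, rfl⟩ := exists_lTensor_ker C N'.mkQ N'.mkQ_surjective w hw
      rw [LinearMap.mem_ker]
      clear hz hw
      induction t using TensorProduct.induction_on with
      | zero => simp
      | tmul c y =>
        rw [LinearMap.lTensor_tmul]
        refine (hψ _ _ _).trans ?_; rw [Submodule.subtype_apply]
        have h0 : (1 : C) ⊗ₜ[A] N'.mkQ ((ψ i).baseChange A (y : A ⊗[R] M)) = 0 :=
          (one_tmul_eq_zero_iff _).2 fun d => hle (Ideal.subset_span (Or.inl ⟨i, y, (Submodule.Quotient.mk_eq_zero _).1 y.2, d, rfl⟩))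
        rw [show c ⊗ₜ[A] N'.mkQ ((ψ i).baseChange A (y : A ⊗[R] M)) =
          c • ((1 : C) ⊗ₜ[A] N'.mkQ ((ψ i).baseChange A (y : A ⊗[R] M))) by
            rw [TensorProduct.smul_tmul', smul_eq_mul, mul_one], h0, smul_zero]
      | add t t' ht ht' => simp only [map_add, ht, ht', add_zero]
    · rw [LinearMap.mem_ker, hconst]
      exact (one_tmul_eq_zero_iff _).2 fun d => hle (Ideal.subset_span (Or.inr ⟨m, hm, d, rfl⟩))

/-- Base change commutes with pulling back along a surjection. -/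
theorem map_comap {M₂ : Type u} [AddCommGroup M₂] [Module R M₂] {v : M →ₗ[R] M₂} (hv : Function.Surjective v)
    {A C : Type u} [CommRing A] [Algebra R A] [CommRing C] [Algebra R C] (f : A →ₐ[R] C)
    (N₁ : G(k, A ⊗[R] M; A)) (N₂ : G(k, A ⊗[R] M₂; A))
    (h : N₁.toSubmodule = N₂.toSubmodule.comap (v.baseChange A)) :
    (Module.Grassmannian.map f N₁).toSubmodule = (Module.Grassmannian.map f N₂).toSubmodule.comap (v.baseChange C) := by
  rw [Module.Grassmannian.map_toSubmodule, Module.Grassmannian.map_toSubmodule]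
  letI : Algebra A C := f.toAlgebra
  haveI : IsScalarTower R A C := IsScalarTower.of_algebraMap_eq' <| IsScalarTower.algebraMap_eq R A C
  let u := N₁.toSubmodule.mapQ N₂.toSubmodule (v.baseChange A) h.le
  have hu : Function.Bijective u := by
    refine ⟨?_, fun q => ?_⟩
    · rw [injective_iff_map_eq_zero]
      intro q hq
      obtain ⟨y, rfl⟩ := Submodule.Quotient.mk_surjective _ q
      rw [Submodule.mapQ_apply, Submodule.Quotient.mk_eq_zero] at hq
      rw [Submodule.Quotient.mk_eq_zero, h]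
      exact hq
    · obtain ⟨y, rfl⟩ := Submodule.Quotient.mk_surjective _ q
      obtain ⟨x, rfl⟩ := LinearMap.baseChange_surjective A hv y
      exact ⟨Submodule.Quotient.mk x, rfl⟩
  let e := (LinearEquiv.ofBijective u hu).baseChange A C
  have hkey : ∀ z, e (baseChangeMkQ C N₁.toSubmodule z) = baseChangeMkQ C N₂.toSubmodule (v.baseChange C z) := by
    intro z
    induction z using TensorProduct.induction_on with
    | zero => simp
    | tmul c m => simp [baseChangeMkQ, e, u]
    | add x y hx hy => simp only [map_add, hx, hy]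
  ext z
  rw [LinearMap.mem_ker, Submodule.mem_comap, LinearMap.mem_ker, ← hkey, LinearEquiv.map_eq_zero_iff]

end Groth.Agent.GrassClosed
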