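import Mathlib
import Groth.Agent.ClosedRep.Local
import Groth.Agent.GrassClosed.Ideal

/-! Closed subfunctors of a representing scheme of a Grassmannian, and morphisms from families on affine points. -/

set_option autoImplicit false

universe u

noncomputable section

open TensorProduct CategoryTheory CategoryTheory.Limits AlgebraicGeometry Module
open Module.Grassmannian

namespace Groth.Agent.GrassClosed

variable {R : Type u} [CommRing R]

/-- `Spec A` over `Spec R`. -/
abbrev SpA (A : CommAlgCat.{u} R) : Over (Spec (CommRingCat.of R)) :=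
  Over.mk (Spec.map (CommRingCat.ofHom (algebraMap R A)))

/-- A ring with a morphism of its spectrum to `Spec R`, as an algebra. -/
def algOf {C : CommRingCat.{u}} (s : Spec C ⟶ Spec (CommRingCat.of R)) : CommAlgCat.{u} R :=
  letI : Algebra R C := (Spec.preimage s).hom.toAlgebra
  CommAlgCat.of R C

theorem spec_algOf {C : CommRingCat.{u}} (s : Spec C ⟶ Spec (CommRingCat.of R)) :
    Spec.map (CommRingCat.ofHom (algebraMap R (algOf s))) = s := by
  conv_rhs => rw [← Spec.map_preimage s]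
  rfl

/-- The point given by a morphism of the spectrum. -/
def ptOf {X : Over (Spec (CommRingCat.of R))} {C : CommRingCat.{u}} (z : Spec C ⟶ X.left) :
    SpA (algOf (z ≫ X.hom)) ⟶ X :=
  Over.homMk z (spec_algOf (z ≫ X.hom)).symm

@[simp] theorem ptOf_left {X : Over (Spec (CommRingCat.of R))} {C : CommRingCat.{u}} (z : Spec C ⟶ X.left) :
    (ptOf z).left = z := rfl

theorem exists_algHom {X : Over (Spec (CommRingCat.of R))} {A B : CommAlgCat.{u} R} (g : SpA A ⟶ X) (g' : SpA B ⟶ X)
    (z : Spec (CommRingCat.of B) ⟶ Spec (CommRingCat.of A)) (hz : z ≫ g.left = g'.left) :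
    ∃ φ : A ⟶ B, Spec.map (CommRingCat.ofHom φ.hom.toRingHom) = z := by
  have h1 : z ≫ Spec.map (CommRingCat.ofHom (algebraMap R A)) = Spec.map (CommRingCat.ofHom (algebraMap R B)) := by
    rw [← show g.left ≫ X.hom = Spec.map (CommRingCat.ofHom (algebraMap R A)) from Over.w g,
      ← show g'.left ≫ X.hom = Spec.map (CommRingCat.ofHom (algebraMap R B)) from Over.w g',
      ← hz, Category.assoc]
  have hw : CommRingCat.ofHom (algebraMap R A) ≫ Spec.preimage z = CommRingCat.ofHom (algebraMap R B) :=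
    Spec.map_injective (by rw [Spec.map_comp, Spec.map_preimage]; exact h1)
  exact ⟨CommAlgCat.ofHom ⟨(Spec.preimage z).hom, fun r => congrArg (fun q => q.hom r) hw⟩, Spec.map_preimage z⟩

/-- Morphisms out of a scheme agree as soon as they agree on affine points. -/
theorem scheme_hom_ext {Y X : Scheme.{u}} (a b : Y ⟶ X)
    (h : ∀ (C : CommRingCat.{u}) (z : Spec C ⟶ Y), z ≫ a = z ≫ b) : a = b := by
  refine Y.affineCover.hom_ext _ _ fun i => ?_
  rw [← cancel_epi (Y.affineCover.X i).isoSpec.inv, ← Category.assoc, ← Category.assoc]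
  exact h _ _

theorem over_hom_ext {Y X : Over (Spec (CommRingCat.of R))} (a b : Y ⟶ X)
    (h : ∀ (A : CommAlgCat.{u} R) (g : SpA A ⟶ Y), g ≫ a = g ≫ b) : a = b :=
  Over.OverMorphism.ext (scheme_hom_ext _ _ fun _ z => congrArg CommaMorphism.left (h _ (ptOf z)))

/-- A natural family on affine points comes from a morphism. -/
theorem exists_hom_of_points {Y X : Over (Spec (CommRingCat.of R))}
    (F : ∀ A : CommAlgCat.{u} R, (SpA A ⟶ Y) → (SpA A ⟶ X))
    (hF : ∀ (A B : CommAlgCat.{u} R) (φ : A ⟶ B) (g : SpA A ⟶ Y) (g' : SpA B ⟶ Y),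
      g'.left = Spec.map (CommRingCat.ofHom φ.hom.toRingHom) ≫ g.left →
        (F B g').left = Spec.map (CommRingCat.ofHom φ.hom.toRingHom) ≫ (F A g).left) :
    ∃ c : Y ⟶ X, ∀ A g, g ≫ c = F A g := by
  let Φ : ∀ (C : CommRingCat.{u}), (Spec C ⟶ Y.left) → (Spec C ⟶ X.left) := fun C w => (F _ (ptOf w)).left
  have key : ∀ (A : CommAlgCat.{u} R) (g : SpA A ⟶ Y) (C : CommRingCat.{u})
      (w : Spec C ⟶ Spec (CommRingCat.of A)),
      w ≫ (F A g).left = Φ C (w ≫ g.left) := by
    intro A g C w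
    obtain ⟨φ, hφ⟩ := exists_algHom g (ptOf (w ≫ g.left)) w rfl
    exact ((hF A _ φ g _ ((ptOf_left _).trans (congrArg (fun q => q ≫ g.left) hφ.symm))).trans
      (congrArg (fun q => q ≫ (F A g).left) hφ)).symm
  let 𝒰 := Y.left.affineCover
  let z : ∀ i, Spec Γ(𝒰.X i, ⊤) ⟶ Y.left := fun i => (𝒰.X i).isoSpec.inv ≫ 𝒰.f i
  let f : ∀ i, 𝒰.X i ⟶ X.left := fun i => (𝒰.X i).isoSpec.hom ≫ Φ _ (z i)
  have hf : ∀ i (C : CommRingCat.{u}) (w : Spec C ⟶ 𝒰.X i), w ≫ f i = Φ C (w ≫ 𝒰.f i) := by
    intro i C w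
    have e := key _ (ptOf (z i)) C (w ≫ (𝒰.X i).isoSpec.hom)
    have e' : (w ≫ (𝒰.X i).isoSpec.hom) ≫ z i = w ≫ 𝒰.f i := by simp [z]
    exact ((Category.assoc _ _ _).symm.trans e).trans (congrArg (Φ C) e')
  have hcomp : ∀ i j, pullback.fst (𝒰.f i) (𝒰.f j) ≫ f i = pullback.snd (𝒰.f i) (𝒰.f j) ≫ f j := fun i j =>
    scheme_hom_ext _ _ fun C w => by
      rw [← Category.assoc, hf, ← Category.assoc w, hf, Category.assoc, pullback.condition, Category.assoc]
  let c₀ : Y.left ⟶ X.left := 𝒰.glueMorphisms f hcomp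
  have hc : ∀ (C : CommRingCat.{u}) (w : Spec C ⟶ Y.left), w ≫ c₀ = Φ C w := by
    intro C w
    refine Scheme.Cover.hom_ext (𝒰.pullback₁ w) _ _ fun i => scheme_hom_ext _ _ fun D t => ?_
    have e1 : pullback.fst w (𝒰.f i) ≫ w ≫ c₀ = pullback.snd w (𝒰.f i) ≫ f i := by
      rw [pullback.condition_assoc, Scheme.Cover.ι_glueMorphisms]
    show t ≫ pullback.fst w (𝒰.f i) ≫ w ≫ c₀ = t ≫ pullback.fst w (𝒰.f i) ≫ Φ C w
    refine (congrArg (fun q => t ≫ q) e1).trans ?_
    refine (((Category.assoc _ _ _).symm).trans (hf i D (t ≫ pullback.snd w (𝒰.f i)))).trans ?_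
    rw [← Category.assoc t (pullback.fst w (𝒰.f i))]
    refine Eq.trans ?_ (key _ (ptOf w) D (t ≫ pullback.fst w (𝒰.f i))).symm
    refine congrArg (Φ D) ?_
    exact ((Category.assoc _ _ _).trans ((congrArg (fun q => t ≫ q) pullback.condition).trans
      (Category.assoc _ _ _).symm)).symm.trans (by first | rfl | simp)
  have hw : c₀ ≫ X.hom = Y.hom := scheme_hom_ext _ _ fun C w => by
    rw [← Category.assoc, hc]
    exact (Over.w (F _ (ptOf w))).trans (spec_algOf _)
  refine ⟨Over.homMk c₀ hw, fun A g => Over.OverMorphism.ext ?_⟩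
  show g.left ≫ c₀ = (F A g).left
  refine (hc (CommRingCat.of A) g.left).trans ?_
  refine Eq.trans (congrArg (Φ _) (Category.id_comp g.left).symm) ?_
  exact (key A g (CommRingCat.of A) (𝟙 _)).symm.trans (Category.id_comp _)

section Grass

variable {M : Type u} [AddCommGroup M] [Module R M] {k : ℕ} {X : Over (Spec (CommRingCat.of R))}
  (e : ∀ A : CommAlgCat.{u} R, (SpA A ⟶ X) ≃ (Module.Grassmannian.functor (R := R) (M := M) k).obj A)
  (he : ∀ (A B : CommAlgCat.{u} R) (φ : A ⟶ B) (g : SpA A ⟶ X) (g' : SpA B ⟶ X),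
      g'.left = Spec.map (CommRingCat.ofHom φ.hom.toRingHom) ≫ g.left →
        e B g' = (Module.Grassmannian.functor (R := R) (M := M) k).map φ (e A g))

include he in
/-- A condition on points is represented by a closed subscheme. -/
theorem exists_closed {ι : Type u} (ψ : ι → M →ₗ[R] M) (S : Set M) :
    ∃ (Z : Scheme.{u}) (i : Z ⟶ X.left), IsClosedImmersion i ∧
      ∀ (A : CommAlgCat.{u} R) (g : SpA A ⟶ X),
        (∃ h : (SpA A).left ⟶ Z, h ≫ i = g.left) ↔ Cond ψ S (e A g).toSubmodule := by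
  let P : ∀ ⦃T' : Scheme.{u}⦄, (T' ⟶ X.left) → Prop := fun T' h =>
    ∀ (A : CommAlgCat.{u} R) (g : SpA A ⟶ X), (∃ z : (SpA A).left ⟶ T', z ≫ h = g.left) →
      Cond ψ S (e A g).toSubmodule
  have hmap : ∀ (A B : CommAlgCat.{u} R) (φ : A ⟶ B) (g : SpA A ⟶ X) (g' : SpA B ⟶ X),
      g'.left = Spec.map (CommRingCat.ofHom φ.hom.toRingHom) ≫ g.left →
      (Cond ψ S (e B g').toSubmodule ↔ condIdeal ψ S (e A g).toSubmodule ≤ RingHom.ker φ.hom.toRingHom) := by
    intro A B φ g g' h
    rw [he A B φ g g' h]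
    exact cond_map_iff ψ S φ.hom (e A g)
  have hloc : ClosedRep.IsLocal P := by
    intro T' h 𝒰
    constructor
    · rintro hP i A g ⟨z, hz⟩
      exact hP A g ⟨z ≫ 𝒰.f i, by rw [Category.assoc, hz]⟩
    · rintro hP A g ⟨z, hz⟩
      rw [cond_iff_condIdeal_eq_bot]
      rw [Submodule.eq_bot_iff]
      intro a ha
      have hcov : ∀ x : PrimeSpectrum A, ∃ f : A, f ∉ x.asIdeal ∧ algebraMap A (Localization.Away f) a = 0 := by
        intro x
        obtain ⟨i, y, hy⟩ := 𝒰.exists_eq (z.base x)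
        have hopen : IsOpen (z.base ⁻¹' Set.range (𝒰.f i).base : Set (PrimeSpectrum A)) :=
          (𝒰.f i).isOpenEmbedding.isOpen_range.preimage z.continuous
        obtain ⟨_, ⟨f, rfl⟩, hxf, hf⟩ := PrimeSpectrum.isTopologicalBasis_basic_opens.exists_subset_of_mem_open
          (show x ∈ z.base ⁻¹' Set.range (𝒰.f i).base from ⟨y, hy⟩) hopen
        refine ⟨f, hxf, ?_⟩
        let φ : A ⟶ CommAlgCat.of R (Localization.Away f) :=
          CommAlgCat.ofHom (IsScalarTower.toAlgHom R A (Localization.Away f))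
        let q : Spec (CommRingCat.of (Localization.Away f)) ⟶ (SpA A).left :=
          Spec.map (CommRingCat.ofHom (algebraMap A (Localization.Away f)))
        have hsub : Set.range (q ≫ z).base ⊆ Set.range (𝒰.f i).base := by
          rintro _ ⟨w, rfl⟩
          refine hf ?_
          show PrimeSpectrum.comap (algebraMap A (Localization.Away f)) w ∈
            (PrimeSpectrum.basicOpen f : Set (PrimeSpectrum A))
          rw [← PrimeSpectrum.localization_away_comap_range (Localization.Away f) f]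
          exact ⟨w, rfl⟩
        let g' : SpA (CommAlgCat.of R (Localization.Away f)) ⟶ X := Over.homMk (q ≫ g.left) (by
          show (q ≫ g.left) ≫ X.hom = Spec.map (CommRingCat.ofHom (algebraMap R (Localization.Away f)))
          rw [Category.assoc, Over.w g]
          show Spec.map _ ≫ Spec.map _ = _
          rw [← Spec.map_comp, IsScalarTower.algebraMap_eq R A (Localization.Away f)]
          rfl)
        have hc := hP i _ g' ⟨IsOpenImmersion.lift (𝒰.f i) (q ≫ z) hsub, by
          rw [← Category.assoc, IsOpenImmersion.lift_fac, Category.assoc, hz]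
          rfl⟩
        exact (hmap A _ φ g g' rfl).1 hc ha
      choose f hf hf0 using hcov
      by_contra hne
      obtain ⟨m, hm, hle⟩ := Ideal.exists_le_maximal (Submodule.span A {a}).annihilator
        (fun h => hne (by
          have h1 : (1 : A) ∈ (Submodule.span A {a}).annihilator := h ▸ Submodule.mem_top
          simpa using (Submodule.mem_annihilator_span_singleton _ _).1 h1))
      let x : PrimeSpectrum A := ⟨m, hm.isPrime⟩
      obtain ⟨⟨_, n, rfl⟩, hn⟩ := (IsLocalization.map_eq_zero_iff (Submonoid.powers (f x)) _ a).1 (hf0 x)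
      exact hf x (hm.isPrime.mem_of_pow_mem n (hle ((Submodule.mem_annihilator_span_singleton _ _).2 hn)))
  obtain ⟨J, hJ⟩ := ClosedRep.exists_reps_of_openCover hloc X.left.affineCover fun i => by
    let U := X.left.affineCover.X i
    let z₀ : Spec Γ(U, ⊤) ⟶ X.left := U.isoSpec.inv ≫ X.left.affineCover.f i
    let g₀ := ptOf z₀
    refine ClosedRep.exists_reps_of_isAffine (fun T' h 𝒰 => ?_) (condIdeal ψ S (A := (algOf (z₀ ≫ X.hom) : Type u)) (e (algOf (z₀ ≫ X.hom)) g₀).toSubmodule)
      fun T' _ h => ?_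
    · simpa only [Category.assoc] using hloc (h ≫ X.left.affineCover.f i) 𝒰
    have hfac : ∀ (A : CommAlgCat.{u} R) (g : SpA A ⟶ X) (z : (SpA A).left ⟶ T'),
        z ≫ h ≫ X.left.affineCover.f i = g.left →
        (z ≫ h ≫ U.isoSpec.hom) ≫ g₀.left = g.left := fun A g z hz => by
      rw [ptOf_left]
      simpa [z₀] using hz
    constructor
    · intro hP
      let zT : Spec Γ(T', ⊤) ⟶ T' := T'.isoSpec.inv
      let g := ptOf (X := X) (zT ≫ h ≫ X.left.affineCover.f i)
      have hc := hP _ g ⟨zT, rfl⟩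
      obtain ⟨φ, hφ⟩ := exists_algHom g₀ g _ (hfac _ g zT rfl)
      let φr := φ.hom.toRingHom
      have hφ' : CommRingCat.ofHom φr = h.appTop := by
        refine Spec.map_injective (hφ.trans ?_)
        show T'.isoSpec.inv ≫ h ≫ U.isoSpec.hom = _
        rw [← Category.assoc, ← Scheme.isoSpec_inv_naturality, Category.assoc, Iso.inv_hom_id, Category.comp_id]
        rfl
      rw [Ideal.map_eq_bot_iff_le_ker]
      intro a ha
      have hk := (hmap _ _ φ g₀ g ((congrArg (fun q => q ≫ g₀.left) hφ).trans (hfac _ g zT rfl)).symm).1 hc ha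
      rw [RingHom.mem_ker]
      exact (RingHom.congr_fun (congrArg CommRingCat.Hom.hom hφ') a).symm.trans (RingHom.mem_ker.1 hk)
    · intro hb A g hgz
      obtain ⟨z, hz⟩ := hgz
      obtain ⟨φ, hφ⟩ := exists_algHom g₀ g _ (hfac A g z hz)
      refine (hmap _ _ φ g₀ g ((congrArg (fun q => q ≫ g₀.left) hφ).trans (hfac A g z hz)).symm).2 fun a ha => ?_
      have e1 : z ≫ h ≫ U.isoSpec.hom = (z ≫ T'.isoSpec.hom) ≫ Spec.map h.appTop := by
        rw [Category.assoc, Scheme.isoSpec_hom_naturality]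
      have e2 : CommRingCat.ofHom φ.hom.toRingHom = h.appTop ≫ Spec.preimage (z ≫ T'.isoSpec.hom) := by
        refine Spec.map_injective (hφ.trans (e1.trans ?_))
        exact ((Spec.map_comp _ _).trans (congrArg (fun q => q ≫ Spec.map h.appTop) (Spec.map_preimage _))).symm
      rw [RingHom.mem_ker, show φ.hom.toRingHom a = (h.appTop ≫ Spec.preimage (z ≫ T'.isoSpec.hom)).hom a from
        congrArg (fun q => q.hom a) e2]
      have h0 : h.appTop.hom a = 0 := (Submodule.eq_bot_iff _).1 hb _ (Ideal.mem_map_of_mem _ ha)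
      show (Spec.preimage (z ≫ T'.isoSpec.hom)).hom (h.appTop.hom a) = 0
      rw [h0, map_zero]
  refine ⟨J.subscheme, J.subschemeι, inferInstance, fun A g => ?_⟩
  rw [hJ.factors_iff g.left]
  refine ⟨fun h => h A g ⟨𝟙 _, Category.id_comp _⟩, fun hc A' g' ⟨z, hz⟩ => ?_⟩
  obtain ⟨φ, hφ⟩ := exists_algHom g g' z hz
  refine (hmap A A' φ g g' ((congrArg (fun q => q ≫ g.left) hφ).trans hz).symm).2 ?_
  rw [(cond_iff_condIdeal_eq_bot ψ S (e A g)).1 hc]
  exact bot_le

end Grass

end Groth.Agent.GrassClosed
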