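import Mathlib
import Groth.Agent.GrassClosed.Points

/-! A surjection of modules gives a closed immersion of Grassmannians. -/

set_option autoImplicit false

universe u

noncomputable section

open TensorProduct CategoryTheory CategoryTheory.Limits AlgebraicGeometry Module
open Module.Grassmannian

namespace Groth.Agent.GrassClosed

variable {R : Type u} [CommRing R] {M₁ M₂ : Type u} [AddCommGroup M₁] [Module R M₁]
  [AddCommGroup M₂] [Module R M₂] {k : ℕ}

/-- Pull back a point along a surjection. -/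
def comapPt {v : M₁ →ₗ[R] M₂} (hv : Function.Surjective v) {A : Type u} [CommRing A] [Algebra R A]
    (N : G(k, A ⊗[R] M₂; A)) : G(k, A ⊗[R] M₁; A) :=
  let e : ((A ⊗[R] M₁) ⧸ N.toSubmodule.comap (v.baseChange A)) ≃ₗ[A] (A ⊗[R] M₂) ⧸ N.toSubmodule :=
    (Submodule.quotEquivOfEq _ (LinearMap.ker (N.toSubmodule.mkQ.comp (v.baseChange A)))
      (by rw [LinearMap.ker_comp, Submodule.ker_mkQ])).trans
      ((N.toSubmodule.mkQ.comp (v.baseChange A)).quotKerEquivOfSurjective
        (N.toSubmodule.mkQ_surjective.comp (LinearMap.baseChange_surjective A hv)))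
  { toSubmodule := N.toSubmodule.comap (v.baseChange A)
    finite_quotient := Module.Finite.equiv e.symm
    projective_quotient := Module.Projective.of_equiv e.symm
    rankAtStalk_eq := fun p => (congrFun (Module.rankAtStalk_eq_of_equiv e) p).trans (N.rankAtStalk_eq p) }

theorem ker_baseChange_le {v : M₁ →ₗ[R] M₂} (hv : Function.Surjective v) {A : Type u} [CommRing A]
    [Algebra R A] (N : Submodule A (A ⊗[R] M₁)) (h : ∀ m ∈ LinearMap.ker v, (1 : A) ⊗ₜ[R] m ∈ N) :
    LinearMap.ker (v.baseChange A) ≤ N := by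
  intro w hw
  obtain ⟨t, rfl⟩ := exists_lTensor_ker A v hv w hw
  clear hw
  induction t using TensorProduct.induction_on with
  | zero => rw [map_zero]; exact zero_mem _
  | tmul a m =>
    rw [LinearMap.lTensor_tmul, show a ⊗ₜ[R] (LinearMap.ker v).subtype m = a • ((1 : A) ⊗ₜ[R] (m : M₁)) by
      rw [TensorProduct.smul_tmul', smul_eq_mul, mul_one, Submodule.subtype_apply]]
    exact N.smul_mem a (h m m.2)
  | add t t' ht ht' => rw [map_add]; exact add_mem ht ht'

/-- Push a point along a surjection. -/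
def mapPt {v : M₁ →ₗ[R] M₂} (hv : Function.Surjective v) {A : Type u} [CommRing A] [Algebra R A]
    (N : G(k, A ⊗[R] M₁; A)) (h : ∀ m ∈ LinearMap.ker v, (1 : A) ⊗ₜ[R] m ∈ N.toSubmodule) :
    G(k, A ⊗[R] M₂; A) :=
  let vA := v.baseChange A
  let N' := N.toSubmodule.map vA
  have hsurj : Function.Surjective vA := LinearMap.baseChange_surjective A hv
  have hcomap : N'.comap vA = N.toSubmodule :=
    Submodule.comap_map_eq_self (ker_baseChange_le hv N.toSubmodule h)
  let e : ((A ⊗[R] M₁) ⧸ N.toSubmodule) ≃ₗ[A] (A ⊗[R] M₂) ⧸ N' :=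
    (Submodule.quotEquivOfEq _ (LinearMap.ker (N'.mkQ.comp vA))
      (by rw [LinearMap.ker_comp, Submodule.ker_mkQ, hcomap])).trans
      ((N'.mkQ.comp vA).quotKerEquivOfSurjective (N'.mkQ_surjective.comp hsurj))
  { toSubmodule := N'
    finite_quotient := Module.Finite.equiv e
    projective_quotient := Module.Projective.of_equiv e
    rankAtStalk_eq := fun p => (congrFun (Module.rankAtStalk_eq_of_equiv e.symm) p).trans (N.rankAtStalk_eq p) }

theorem comap_mapPt {v : M₁ →ₗ[R] M₂} (hv : Function.Surjective v) {A : Type u} [CommRing A] [Algebra R A]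
    (N : G(k, A ⊗[R] M₁; A)) (h : ∀ m ∈ LinearMap.ker v, (1 : A) ⊗ₜ[R] m ∈ N.toSubmodule) :
    (mapPt hv N h).toSubmodule.comap (v.baseChange A) = N.toSubmodule :=
  Submodule.comap_map_eq_self (ker_baseChange_le hv N.toSubmodule h)

theorem comap_injective {v : M₁ →ₗ[R] M₂} (hv : Function.Surjective v) {A : Type u} [CommRing A] [Algebra R A]
    {N N' : G(k, A ⊗[R] M₂; A)}
    (h : N.toSubmodule.comap (v.baseChange A) = N'.toSubmodule.comap (v.baseChange A)) : N = N' :=
  Module.Grassmannian.ext (Submodule.comap_injective_of_surjective (LinearMap.baseChange_surjective A hv) h)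

theorem closedImmersion_of_comap (v : M₁ →ₗ[R] M₂) (hv : Function.Surjective v)
    (X₁ X₂ : Over (Spec (CommRingCat.of R)))
    (e₁ : ∀ A : CommAlgCat.{u} R, (SpA A ⟶ X₁) ≃ (Module.Grassmannian.functor (R := R) (M := M₁) k).obj A)
    (he₁ : ∀ (A B : CommAlgCat.{u} R) (φ : A ⟶ B) (g : SpA A ⟶ X₁) (g' : SpA B ⟶ X₁),
      g'.left = Spec.map (CommRingCat.ofHom φ.hom.toRingHom) ≫ g.left →
        e₁ B g' = (Module.Grassmannian.functor (R := R) (M := M₁) k).map φ (e₁ A g))
    (e₂ : ∀ A : CommAlgCat.{u} R, (SpA A ⟶ X₂) ≃ (Module.Grassmannian.functor (R := R) (M := M₂) k).obj A)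
    (he₂ : ∀ (A B : CommAlgCat.{u} R) (φ : A ⟶ B) (g : SpA A ⟶ X₂) (g' : SpA B ⟶ X₂),
      g'.left = Spec.map (CommRingCat.ofHom φ.hom.toRingHom) ≫ g.left →
        e₂ B g' = (Module.Grassmannian.functor (R := R) (M := M₂) k).map φ (e₂ A g)) :
    (∃ c : X₂ ⟶ X₁, ∀ (A : CommAlgCat.{u} R) (g : SpA A ⟶ X₂),
        (e₁ A (g ≫ c)).toSubmodule = (e₂ A g).toSubmodule.comap (v.baseChange A)) ∧
      ∀ c : X₂ ⟶ X₁, (∀ (A : CommAlgCat.{u} R) (g : SpA A ⟶ X₂),
        (e₁ A (g ≫ c)).toSubmodule = (e₂ A g).toSubmodule.comap (v.baseChange A)) →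
        IsClosedImmersion c.left := by
  constructor
  · let F : ∀ A : CommAlgCat.{u} R, (SpA A ⟶ X₂) → (SpA A ⟶ X₁) := fun A g =>
      (e₁ A).symm (comapPt hv (e₂ A g))
    obtain ⟨c, hc⟩ := exists_hom_of_points F fun A B φ g g' hg => by
      let g'' : SpA B ⟶ X₁ := Over.homMk (Spec.map (CommRingCat.ofHom φ.hom.toRingHom) ≫ (F A g).left) (by
        rw [Category.assoc, Over.w (F A g), ← Over.w g', hg, Category.assoc, Over.w g])
      have h1 := he₁ A B φ (F A g) g'' rfl
      have h2 : F B g' = g'' := by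
        apply (e₁ B).injective
        show e₁ B ((e₁ B).symm (comapPt hv (e₂ B g'))) = _
        rw [Equiv.apply_symm_apply, h1, he₂ A B φ g g' hg]
        refine Module.Grassmannian.ext ?_
        refine (map_comap hv φ.hom (e₁ A (F A g)) (e₂ A g) ?_).symm
        show (e₁ A ((e₁ A).symm (comapPt hv (e₂ A g)))).toSubmodule = _
        rw [Equiv.apply_symm_apply]
        rfl
      rw [h2]
      rfl
    refine ⟨c, fun A g => ?_⟩
    rw [hc]
    show (e₁ A ((e₁ A).symm (comapPt hv (e₂ A g)))).toSubmodule = _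
    rw [Equiv.apply_symm_apply]
    rfl
  intro c hc
  obtain ⟨Z, i, hi, hZ⟩ := exists_closed e₁ he₁ (ι := PEmpty.{u + 1}) (fun a => a.elim)
    (LinearMap.ker v : Set M₁)
  haveI := hi
  have hinj : ∀ (A : CommAlgCat.{u} R) (g g' : SpA A ⟶ X₂), g ≫ c = g' ≫ c → g = g' := fun A g g' h => by
    apply (e₂ A).injective
    refine comap_injective hv ?_
    rw [← hc, ← hc, h]
  haveI hmono : Mono c.left := ⟨fun {W} a b hab => scheme_hom_ext _ _ fun C z => by
    have hab' : (z ≫ a) ≫ c.left = (z ≫ b) ≫ c.left := by rw [Category.assoc, hab, Category.assoc]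
    have hover : (z ≫ b) ≫ X₂.hom = (z ≫ a) ≫ X₂.hom := by
      rw [← Over.w c, ← Category.assoc, ← hab', Category.assoc]
    let g' : SpA (algOf ((z ≫ a) ≫ X₂.hom)) ⟶ X₂ :=
      Over.homMk (z ≫ b) (hover.trans (spec_algOf _).symm)
    exact congrArg CommaMorphism.left (hinj _ (ptOf (z ≫ a)) g' (Over.OverMorphism.ext hab'))⟩
  let Zo : Over (Spec (CommRingCat.of R)) := Over.mk (i ≫ X₁.hom)
  let io : Zo ⟶ X₁ := Over.homMk i rfl
  have hcond : ∀ (A : CommAlgCat.{u} R) (g : SpA A ⟶ X₂), ∃ h : (SpA A).left ⟶ Z, h ≫ i = (g ≫ c).left :=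
    fun A g => (hZ A (g ≫ c)).2 ⟨fun a => a.elim, fun m hm => by
      rw [hc, Submodule.mem_comap, LinearMap.baseChange_tmul, LinearMap.mem_ker.1 hm, TensorProduct.tmul_zero]
      exact zero_mem _⟩
  have hcondZ : ∀ (A : CommAlgCat.{u} R) (g : SpA A ⟶ Zo),
      ∀ m ∈ LinearMap.ker v, (1 : A) ⊗ₜ[R] m ∈ (e₁ A (g ≫ io)).toSubmodule :=
    fun A g => ((hZ A (g ≫ io)).1 ⟨g.left, rfl⟩).2
  let G : ∀ A : CommAlgCat.{u} R, (SpA A ⟶ Zo) → (SpA A ⟶ X₂) := fun A g =>
    (e₂ A).symm (mapPt hv (e₁ A (g ≫ io)) (hcondZ A g))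
  have hG : ∀ (A : CommAlgCat.{u} R) (g : SpA A ⟶ Zo), G A g ≫ c = g ≫ io := fun A g => by
    apply (e₁ A).injective
    refine Module.Grassmannian.ext ?_
    rw [hc]
    show ((e₂ A) ((e₂ A).symm (mapPt hv (e₁ A (g ≫ io)) (hcondZ A g)))).toSubmodule.comap _ = _
    rw [Equiv.apply_symm_apply]
    exact comap_mapPt hv _ _
  obtain ⟨d, hd⟩ := exists_hom_of_points G fun A B φ g g' hg => by
    rw [← cancel_mono c.left, Category.assoc]
    show (G B g' ≫ c).left = _ ≫ (G A g ≫ c).left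
    rw [hG, hG]
    show g'.left ≫ i = _ ≫ g.left ≫ i
    rw [hg, Category.assoc]
  have hdc : d ≫ c = io := over_hom_ext _ _ fun A g => by rw [← Category.assoc, hd, hG]
  obtain ⟨k', hk'⟩ : ∃ k' : X₂.left ⟶ Z, k' ≫ i = c.left := by
    have hfac : ∀ (C : CommRingCat.{u}) (z : Spec C ⟶ X₂.left), ∃ h : Spec C ⟶ Z, h ≫ i = z ≫ c.left :=
      fun C z => hcond _ (ptOf z)
    have hker : i.ker ≤ c.left.ker := by
      rw [← ClosedRep.comap_eq_bot_iff]
      refine ClosedRep.eq_bot_of_cover _ X₂.left.affineCover fun j => ?_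
      rw [← Scheme.IdealSheafData.comap_comp, ClosedRep.comap_eq_bot_iff]
      obtain ⟨h, hh⟩ := hfac _ ((X₂.left.affineCover.X j).isoSpec.inv ≫ X₂.left.affineCover.f j)
      have : X₂.left.affineCover.f j ≫ c.left = ((X₂.left.affineCover.X j).isoSpec.hom ≫ h) ≫ i := by
        rw [Category.assoc, hh, Category.assoc, Iso.hom_inv_id_assoc]
      rw [this]
      exact Scheme.Hom.le_ker_comp _ i
    exact ⟨IsClosedImmersion.lift i c.left hker, IsClosedImmersion.lift_fac _ _ _⟩
  have h1 : d.left ≫ k' = 𝟙 Z := by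
    rw [← cancel_mono i, Category.assoc, hk']
    exact (congrArg CommaMorphism.left hdc).trans (Category.id_comp i).symm
  have h2 : k' ≫ d.left = 𝟙 _ := by
    rw [← cancel_mono c.left, Category.assoc, Category.id_comp]
    exact (congrArg (fun q => k' ≫ q) (congrArg CommaMorphism.left hdc)).trans hk'
  haveI : IsIso k' := ⟨d.left, h2, h1⟩
  rw [← hk']
  infer_instance

theorem baseChange_mulLeft {B : Type u} [Ring B] [Algebra R B] {A : Type u} [CommRing A] [Algebra R A]
    (b : B) (x : A ⊗[R] B) : (LinearMap.mulLeft R b).baseChange A x = ((1 : A) ⊗ₜ[R] b) * x := by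
  induction x using TensorProduct.induction_on with
  | zero => simp
  | tmul a y => simp
  | add x y hx hy => simp only [map_add, mul_add, hx, hy]

theorem exists_closed_ideals {B : Type u} [Ring B] [Algebra R B] (X : Over (Spec (CommRingCat.of R)))
    (e : ∀ A : CommAlgCat.{u} R, (SpA A ⟶ X) ≃ (Module.Grassmannian.functor (R := R) (M := B) k).obj A)
    (he : ∀ (A C : CommAlgCat.{u} R) (φ : A ⟶ C) (g : SpA A ⟶ X) (g' : SpA C ⟶ X),
      g'.left = Spec.map (CommRingCat.ofHom φ.hom.toRingHom) ≫ g.left →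
        e C g' = (Module.Grassmannian.functor (R := R) (M := B) k).map φ (e A g)) :
    ∃ (Z : Scheme.{u}) (i : Z ⟶ X.left), IsClosedImmersion i ∧
      ∀ (A : CommAlgCat.{u} R) (g : SpA A ⟶ X),
        (∃ h : (SpA A).left ⟶ Z, h ≫ i = g.left) ↔
          ∀ (b : B) (x : ↑A ⊗[R] B), x ∈ (e A g).toSubmodule →
            ((1 : ↑A) ⊗ₜ[R] b) * x ∈ (e A g).toSubmodule := by
  obtain ⟨Z, i, hi, hZ⟩ := exists_closed e he (fun b : B => LinearMap.mulLeft R b) ∅
  refine ⟨Z, i, hi, fun A g => (hZ A g).trans ⟨fun h b x hx => ?_, fun h => ⟨fun b x hx => ?_, ?_⟩⟩⟩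
  · rw [← baseChange_mulLeft]
    exact h.1 b x hx
  · rw [baseChange_mulLeft]
    exact h b x hx
  · exact fun m hm => hm.elim

end Groth.Agent.GrassClosed
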